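import Mathlib

/-! `Proj` commutes with base change of the base ring. -/

set_option autoImplicit false
set_option linter.style.haveILetI false
set_option backward.isDefEq.respectTransparency false
universe u
open CategoryTheory CategoryTheory.Limits AlgebraicGeometry TensorProduct

noncomputable section

namespace Groth.Agent.ProjBC

variable {R R' A B : Type u} [CommRing R'] [CommRing R] [Algebra R' R]
  [CommRing B] [Algebra R' B] (ℬ : ℕ → Submodule R' B) [GradedAlgebra ℬ]
  [CommRing A] [Algebra R A] (𝒜 : ℕ → Submodule R A) [GradedAlgebra 𝒜]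

/-- The structure map `R → A_(f)`. -/
def sA (f : A) : R →+* HomogeneousLocalization.Away 𝒜 f :=
  (HomogeneousLocalization.fromZeroRingHom 𝒜 _).comp (algebraMap R (𝒜 0))

lemma val_sA (f : A) (r : R) : (sA 𝒜 f r).val = Localization.mk (algebraMap R A r) 1 := rfl

variable [Algebra R' A] [IsScalarTower R' R A] [Algebra B A] [IsScalarTower R' B A]

variable {ℬ 𝒜} in
lemma bijective_productMap [Algebra.IsPushout R' R B A] :
    Function.Bijective (Algebra.TensorProduct.productMap (IsScalarTower.toAlgHom R' R A)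
      (IsScalarTower.toAlgHom R' B A)) := by
  have h : ⇑(Algebra.TensorProduct.productMap (IsScalarTower.toAlgHom R' R A)
      (IsScalarTower.toAlgHom R' B A)) = ⇑(Algebra.IsPushout.equiv R' R B A) := by
    ext z
    induction z with
    | zero => simp
    | add x y hx hy => simp [hx, hy]
    | tmul a b => simp [Algebra.IsPushout.equiv_tmul, Algebra.smul_def]
  rw [h]
  exact (Algebra.IsPushout.equiv R' R B A).bijective

variable [Algebra.IsPushout R' R B A] (φ : ℬ →+*ᵍ 𝒜) (hφA : ∀ b : B, φ b = algebraMap B A b)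

include hφA in
lemma map_sA (g : B) (r : R') :
    HomogeneousLocalization.Away.map φ g (sA ℬ g r) = sA 𝒜 (φ g) (algebraMap R' R r) := by
  ext
  rw [val_sA, ← IsScalarTower.algebraMap_apply, IsScalarTower.algebraMap_apply R' B A, ← hφA]
  show (HomogeneousLocalization.map φ _ (HomogeneousLocalization.mk _)).val = _
  rw [HomogeneousLocalization.map_mk, HomogeneousLocalization.val_mk]
  congr 1
  exact Subtype.ext (map_one φ.toRingHom)

include hφA in
theorem isPushout {n : ℕ} {g : B} (hg : g ∈ ℬ n) :
    IsPushout (CommRingCat.ofHom (algebraMap R' R)) (CommRingCat.ofHom (sA ℬ g))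
      (CommRingCat.ofHom (sA 𝒜 (φ g)))
      (CommRingCat.ofHom (HomogeneousLocalization.Away.map φ g)) := by
  letI aB : Algebra R' (HomogeneousLocalization.Away ℬ g) := (sA ℬ g).toAlgebra
  letI aA : Algebra R' (HomogeneousLocalization.Away 𝒜 (φ g)) :=
    ((sA 𝒜 (φ g)).comp (algebraMap R' R)).toAlgebra
  let fR : R →ₐ[R'] HomogeneousLocalization.Away 𝒜 (φ g) :=
    { sA 𝒜 (φ g) with commutes' := fun r => rfl }
  let fB : HomogeneousLocalization.Away ℬ g →ₐ[R'] HomogeneousLocalization.Away 𝒜 (φ g) :=
    { HomogeneousLocalization.Away.map φ g with commutes' := fun r => map_sA ℬ 𝒜 φ hφA g r }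
  let Ψ := Algebra.TensorProduct.productMap fR fB
  let ι := Algebra.TensorProduct.productMap (IsScalarTower.toAlgHom R' R A)
    (IsScalarTower.toAlgHom R' B A)
  have hι : ∀ (r : R) (b : B), ι (r ⊗ₜ b) = algebraMap R A r * φ b := fun r b => by
    simp [ι, hφA]
  let Λ : ℕ → B →ₗ[R'] HomogeneousLocalization.Away ℬ g := fun k =>
    { toFun := fun b => HomogeneousLocalization.Away.mk ℬ hg k
        (DirectSum.decompose ℬ b (k • n) : B) (SetLike.coe_mem _)
      map_add' := fun x y => by
        ext
        simp [Localization.add_mk_self]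
      map_smul' := fun r x => by
        rw [RingHom.id_apply, Algebra.smul_def (A := HomogeneousLocalization.Away ℬ g)]
        change _ = sA ℬ g r * _
        ext
        rw [HomogeneousLocalization.val_mul, val_sA, HomogeneousLocalization.Away.val_mk,
          HomogeneousLocalization.Away.val_mk, Localization.mk_mul, one_mul, ← Algebra.smul_def]
        simp only [DirectSum.decompose_smul]
        rfl }
  have hΨ : ∀ (k : ℕ) (w : R ⊗[R'] B), (Ψ ((Λ k).lTensor R w)).val =
      Localization.mk (DirectSum.decompose 𝒜 (ι w) (k • n) : A)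
        (⟨φ g ^ k, k, rfl⟩ : Submonoid.powers (φ g)) := by
    intro k w
    induction w with
    | zero => simp [Localization.mk_zero]
    | add x y hx hy =>
      rw [map_add, map_add, HomogeneousLocalization.val_add, hx, hy, map_add,
        DirectSum.decompose_add, DirectSum.add_apply, Submodule.coe_add, Localization.add_mk_self]
    | tmul r b =>
      rw [LinearMap.lTensor_tmul, Algebra.TensorProduct.productMap_apply_tmul,
        HomogeneousLocalization.val_mul, hι, ← Algebra.smul_def, DirectSum.decompose_smul]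
      change (sA 𝒜 (φ g) r).val * (HomogeneousLocalization.Away.map φ g
        (HomogeneousLocalization.Away.mk ℬ hg k _ _)).val = _
      rw [val_sA, HomogeneousLocalization.Away.map_mk, HomogeneousLocalization.Away.val_mk,
        Localization.mk_mul, one_mul, GradedRingHom.map_directSumDecompose, ← Algebra.smul_def]
      rfl
  have hraise : ∀ (k j : ℕ) (w : R ⊗[R'] B),
      (Λ (k + j)).lTensor R (((1 : R) ⊗ₜ[R'] (g ^ j)) * w) = (Λ k).lTensor R w := by
    intro k j w
    induction w with
    | zero => simp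
    | add x y hx hy => rw [mul_add, map_add, map_add, hx, hy]
    | tmul r b =>
      rw [Algebra.TensorProduct.tmul_mul_tmul, one_mul, LinearMap.lTensor_tmul, LinearMap.lTensor_tmul]
      congr 1
      ext
      change (HomogeneousLocalization.Away.mk ℬ hg (k + j) _ _).val =
        (HomogeneousLocalization.Away.mk ℬ hg k _ _).val
      have hle : j • n ≤ (k + j) • n := by simp [add_mul]
      rw [HomogeneousLocalization.Away.val_mk, HomogeneousLocalization.Away.val_mk,
        DirectSum.coe_decompose_mul_of_left_mem_of_le ℬ (SetLike.pow_mem_graded j hg) hle,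
        show (k + j) • n - j • n = k • n by simp [add_mul],
        Localization.mk_eq_mk_iff, Localization.r_iff_exists]
      exact ⟨1, by simp [pow_add]; ring⟩
  have hker : ∀ (k : ℕ) (w : R ⊗[R'] B), (DirectSum.decompose 𝒜 (ι w) (k • n) : A) = 0 →
      (Λ k).lTensor R w = 0 := by
    intro k w hw
    let P : B →ₗ[R'] B := GradedAlgebra.proj ℬ (k • n)
    have hP : ∀ w : R ⊗[R'] B, ι (P.lTensor R w) = (DirectSum.decompose 𝒜 (ι w) (k • n) : A) := by
      intro w
      induction w with
      | zero => simp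
      | add x y hx hy =>
        rw [map_add, map_add, hx, hy, map_add, DirectSum.decompose_add, DirectSum.add_apply,
          Submodule.coe_add]
      | tmul r b =>
        rw [LinearMap.lTensor_tmul, hι, hι, ← Algebra.smul_def, ← Algebra.smul_def,
          DirectSum.decompose_smul, GradedAlgebra.proj_apply, GradedRingHom.map_directSumDecompose]
        rfl
    have h0 : P.lTensor R w = 0 := bijective_productMap.1 (by rw [hP, hw, map_zero])
    have hcomp : (Λ k).comp P = Λ k := by
      refine LinearMap.ext fun b => ?_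
      ext
      change (HomogeneousLocalization.Away.mk ℬ hg k _ _).val =
        (HomogeneousLocalization.Away.mk ℬ hg k _ _).val
      rw [HomogeneousLocalization.Away.val_mk, HomogeneousLocalization.Away.val_mk,
        GradedAlgebra.proj_apply, DirectSum.decompose_of_mem_same ℬ (SetLike.coe_mem _)]
    rw [← hcomp, LinearMap.lTensor_comp_apply, h0, map_zero]
  have hform : ∀ z, ∃ (k : ℕ) (w : R ⊗[R'] B), (Λ k).lTensor R w = z := by
    intro z
    induction z with
    | zero => exact ⟨0, 0, map_zero _⟩
    | tmul r x =>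
      obtain ⟨k, b, hb, rfl⟩ := HomogeneousLocalization.Away.mk_surjective ℬ hg x
      refine ⟨k, r ⊗ₜ b, ?_⟩
      rw [LinearMap.lTensor_tmul]
      congr 1
      ext
      change (HomogeneousLocalization.Away.mk ℬ hg k _ _).val = _
      rw [HomogeneousLocalization.Away.val_mk, HomogeneousLocalization.Away.val_mk,
        DirectSum.decompose_of_mem_same ℬ hb]
    | add x y hx hy =>
      obtain ⟨k, w, rfl⟩ := hx
      obtain ⟨l, w', rfl⟩ := hy
      refine ⟨k + l, (1 ⊗ₜ (g ^ l)) * w + (1 ⊗ₜ (g ^ k)) * w', ?_⟩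
      rw [map_add, hraise]
      conv_lhs => rw [add_comm k l, hraise]
  have hbij : Function.Bijective Ψ := by
    constructor
    · rw [injective_iff_map_eq_zero]
      intro z hz
      obtain ⟨k, w, rfl⟩ := hform z
      have h := congrArg HomogeneousLocalization.val hz
      rw [hΨ, HomogeneousLocalization.val_zero, ← Localization.mk_zero 1,
        Localization.mk_eq_mk_iff, Localization.r_iff_exists] at h
      obtain ⟨⟨_, m, rfl⟩, hm⟩ := h
      simp only [OneMemClass.coe_one, one_mul, mul_zero] at hm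
      rw [← hraise k m]
      apply hker
      have hle : m • n ≤ (k + m) • n := by simp [add_mul]
      have hgm : φ g ^ m ∈ 𝒜 (m • n) := SetLike.pow_mem_graded m (φ.2 hg)
      rw [map_mul, hι, map_one, one_mul, map_pow,
        DirectSum.coe_decompose_mul_of_left_mem_of_le 𝒜 hgm hle,
        show (k + m) • n - m • n = k • n by simp [add_mul]]
      exact hm
    · intro y
      obtain ⟨k, a, ha, rfl⟩ := HomogeneousLocalization.Away.mk_surjective 𝒜 (φ.2 hg) y
      obtain ⟨w, hw⟩ := bijective_productMap (R' := R') (R := R) (A := A) (B := B).2 a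
      refine ⟨(Λ k).lTensor R w, ?_⟩
      ext
      rw [hΨ, HomogeneousLocalization.Away.val_mk]
      congr 1
      change (DirectSum.decompose 𝒜 (ι w) (k • n) : A) = a
      rw [show ι w = a from hw, DirectSum.decompose_of_mem_same 𝒜 ha]
  refine (CommRingCat.isPushout_tensorProduct R' R (HomogeneousLocalization.Away ℬ g)).of_iso
    (Iso.refl _) (Iso.refl _) (Iso.refl _) (RingEquiv.ofBijective Ψ.toRingHom hbij).toCommRingCatIso
    ?_ ?_ ?_ ?_
  · simp
  · simp only [Iso.refl_hom, Category.comp_id, Category.id_comp]; rfl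
  · refine CommRingCat.hom_ext (RingHom.ext fun r => ?_)
    exact (Algebra.TensorProduct.productMap_left_apply fR fB r)
  · refine CommRingCat.hom_ext (RingHom.ext fun r => ?_)
    exact (Algebra.TensorProduct.productMap_right_apply fR fB r)

include hφA in
theorem isPullback (hφ : HomogeneousIdeal.irrelevant 𝒜 ≤ (HomogeneousIdeal.irrelevant ℬ).map φ) :
    IsPullback (Proj.map φ hφ)
      (Proj.toSpecZero 𝒜 ≫ Spec.map (CommRingCat.ofHom (algebraMap R (𝒜 0))))
      (Proj.toSpecZero ℬ ≫ Spec.map (CommRingCat.ofHom (algebraMap R' (ℬ 0))))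
      (Spec.map (CommRingCat.ofHom (algebraMap R' R))) := by
  set s := Proj.toSpecZero ℬ ≫ Spec.map (CommRingCat.ofHom (algebraMap R' (ℬ 0)))
  set q := Proj.toSpecZero 𝒜 ≫ Spec.map (CommRingCat.ofHom (algebraMap R (𝒜 0)))
  set t := Spec.map (CommRingCat.ofHom (algebraMap R' R))
  have hs : ∀ (n : ℕ) (g : B) (hn : 0 < n) (hg : g ∈ ℬ n),
      Proj.awayι ℬ g hg hn ≫ s = Spec.map (CommRingCat.ofHom (sA ℬ g)) := fun n g hn hg => by
    rw [Proj.awayι_toSpecZero_assoc, ← Spec.map_comp]
    rfl
  have hq : ∀ (n : ℕ) (f : A) (hn : 0 < n) (hf : f ∈ 𝒜 n),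
      Proj.awayι 𝒜 f hf hn ≫ q = Spec.map (CommRingCat.ofHom (sA 𝒜 f)) := fun n f hn hf => by
    rw [Proj.awayι_toSpecZero_assoc, ← Spec.map_comp]
    rfl
  have hchart : ∀ (n : ℕ) (g : B) (_hn : 0 < n) (hg : g ∈ ℬ n),
      IsPullback (Spec.map (CommRingCat.ofHom (sA 𝒜 (φ g))))
        (Spec.map (CommRingCat.ofHom (HomogeneousLocalization.Away.map φ g))) t
        (Spec.map (CommRingCat.ofHom (sA ℬ g))) := fun n g _ hg =>
    isPullback_SpecMap_of_isPushout _ _ _ _ (isPushout ℬ 𝒜 φ hφA hg)
  have w : Proj.map φ hφ ≫ s = q ≫ t := by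
    refine (Proj.mapAffineOpenCover φ hφ).openCover.hom_ext _ _ fun i => ?_
    simp only [Scheme.AffineOpenCover.openCover_f, Proj.mapAffineOpenCover_f]
    rw [Proj.awayι_comp_map_assoc φ hφ i.1.2 _ i.2.2, hs]
    erw [reassoc_of% (hq i.1 (φ i.2) i.1.2 (φ.2 i.2.2))]
    exact (hchart i.1 i.2 i.1.2 i.2.2).w.symm
  let h : Proj 𝒜 ⟶ pullback s t := pullback.lift (Proj.map φ hφ) q w
  suffices IsIso h from
    IsPullback.of_iso_pullback ⟨w⟩ (asIso h) (pullback.lift_fst _ _ _) (pullback.lift_snd _ _ _)
  change MorphismProperty.isomorphisms Scheme.{u} h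
  refine IsZariskiLocalAtTarget.of_openCover
    ((Proj.affineOpenCover ℬ).openCover.pullback₁ (pullback.fst s t)) ?_
  rintro ⟨⟨n, hn⟩, g, hg⟩
  have hpb : IsPullback (Spec.map (CommRingCat.ofHom (HomogeneousLocalization.Away.map φ g)))
      (Proj.awayι 𝒜 (φ g) (φ.2 hg) hn) (Proj.awayι ℬ g hg hn) (Proj.map φ hφ) := by
    refine IsOpenImmersion.isPullback _ _ _ _ (Proj.awayι_comp_map φ hφ hn g hg) ?_
    rw [Proj.opensRange_awayι, Proj.opensRange_awayι]
    exact Proj.map_preimage_basicOpen φ hφ g
  have hfst : h ≫ pullback.fst s t = Proj.map φ hφ := pullback.lift_fst _ _ _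
  have hsnd : h ≫ pullback.snd s t = q := pullback.lift_snd _ _ _
  let W := pullback (pullback.fst s t) (Proj.awayι ℬ g hg hn)
  let k : Spec (CommRingCat.of (HomogeneousLocalization.Away 𝒜 (φ g))) ⟶ W :=
    pullback.lift (Proj.awayι 𝒜 (φ g) (φ.2 hg) hn ≫ h)
      (Spec.map (CommRingCat.ofHom (HomogeneousLocalization.Away.map φ g)))
      (by rw [Category.assoc, hfst]; exact hpb.w.symm)
  have hk1 : k ≫ pullback.fst _ _ = Proj.awayι 𝒜 (φ g) (φ.2 hg) hn ≫ h := pullback.lift_fst _ _ _
  have hk2 : k ≫ pullback.snd _ _ =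
      Spec.map (CommRingCat.ofHom (HomogeneousLocalization.Away.map φ g)) := pullback.lift_snd _ _ _
  have hW : IsPullback (pullback.fst (pullback.fst s t) (Proj.awayι ℬ g hg hn) ≫ pullback.snd s t)
      (pullback.snd _ _) t (Proj.awayι ℬ g hg hn ≫ s) :=
    (IsPullback.of_hasPullback _ _).paste_horiz (IsPullback.of_hasPullback s t).flip
  have hA' : IsPullback (Spec.map (CommRingCat.ofHom (sA 𝒜 (φ g))))
      (Spec.map (CommRingCat.ofHom (HomogeneousLocalization.Away.map φ g))) t
      (Proj.awayι ℬ g hg hn ≫ s) := by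
    rw [hs]
    exact hchart n g hn hg
  haveI : IsIso k := by
    have hke : k = (hA'.isoIsPullback _ _ hW).hom := by
      refine hW.hom_ext ?_ ?_
      · rw [IsPullback.isoIsPullback_hom_fst, reassoc_of% hk1, hsnd]
        exact hq n (φ g) hn (φ.2 hg)
      · rw [IsPullback.isoIsPullback_hom_snd, hk2]
    rw [hke]
    infer_instance
  have hleft : IsPullback k (Proj.awayι 𝒜 (φ g) (φ.2 hg) hn)
      (pullback.fst (pullback.fst s t) (Proj.awayι ℬ g hg hn)) h := by
    refine IsPullback.of_right ?_ hk1 (IsPullback.of_hasPullback _ _).flip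
    rw [hk2, hfst]
    exact hpb
  change IsIso (pullback.snd h (pullback.fst (pullback.fst s t) (Proj.awayι ℬ g hg hn)))
  rw [← hleft.flip.isoPullback_inv_snd]
  infer_instance

end Groth.Agent.ProjBC
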