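import Mathlib
import Groth.Agent.ProjBC.Basic
import Groth.Agent.RelProjLib.Basic

/-! `Proj` base change for gradings by additive subgroups. -/

set_option autoImplicit false
set_option linter.style.haveILetI false
set_option backward.isDefEq.respectTransparency false

universe u
open CategoryTheory CategoryTheory.Limits AlgebraicGeometry

noncomputable section

namespace Groth.Agent.ProjBC

variable {R A : CommRingCat.{u}} (s : R ⟶ A) (𝒜 : ℕ → AddSubgroup A) [GradedRing 𝒜]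
  (hs : ∀ r, s.hom r ∈ 𝒜 0)

include hs in
theorem smul_mem_grade (i : ℕ) (r : R) {a : A} (ha : a ∈ 𝒜 i) : s.hom r * a ∈ 𝒜 i := by
  simpa using SetLike.mul_mem_graded (hs r) ha

/-- The pieces as submodules over a ring mapping to degree zero. -/
def subMod : letI := s.hom.toAlgebra; ℕ → Submodule R A :=
  letI := s.hom.toAlgebra
  fun i =>
    { carrier := 𝒜 i
      add_mem' := (𝒜 i).add_mem
      zero_mem' := (𝒜 i).zero_mem
      smul_mem' := fun r _ ha => smul_mem_grade s 𝒜 hs i r ha }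

/-- The graded algebra structure on `subMod`. -/
@[instance_reducible] def gradedSubMod : letI := s.hom.toAlgebra; GradedAlgebra (subMod s 𝒜 hs) := by
  letI := s.hom.toAlgebra
  haveI : SetLike.GradedMonoid (subMod s 𝒜 hs) :=
    { one_mem := SetLike.GradedOne.one_mem (A := 𝒜)
      mul_mem := fun i j x y hx hy => SetLike.mul_mem_graded (A := 𝒜) hx hy }
  letI : DirectSum.Decomposition (subMod s 𝒜 hs) :=
    DirectSum.IsInternal.chooseDecomposition _ (DirectSum.Decomposition.isInternal 𝒜 :)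
  exact {}

/-- Two gradings with the same pieces give isomorphic `Proj`, compatibly with `Proj.map`. -/
theorem isPullback_of_isPushout {R' R B A : CommRingCat.{u}} (t : R' ⟶ R) (sB : R' ⟶ B) (sA : R ⟶ A)
    (f : B ⟶ A) (hpo : IsPushout t sB sA f) (ℬ : ℕ → AddSubgroup B) [GradedRing ℬ]
    (𝒜 : ℕ → AddSubgroup A) [GradedRing 𝒜] (s0B : R' ⟶ CommRingCat.of (ℬ 0)) (s0A : R ⟶ CommRingCat.of (𝒜 0))
    (hs0B : ∀ r, (s0B.hom r : B) = sB.hom r) (hs0A : ∀ r, (s0A.hom r : A) = sA.hom r)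
    (φ : ℬ →+*ᵍ 𝒜) (hφf : φ.toRingHom = f.hom)
    (hirr : HomogeneousIdeal.irrelevant 𝒜 ≤ (HomogeneousIdeal.irrelevant ℬ).map φ) :
    IsPullback (Proj.map φ hirr)
      (Proj.toSpecZero 𝒜 ≫ Spec.map s0A)
      (Proj.toSpecZero ℬ ≫ Spec.map s0B)
      (Spec.map t) := by
  have hsB : ∀ r, sB.hom r ∈ ℬ 0 := fun r => hs0B r ▸ SetLike.coe_mem _
  have hsA : ∀ r, sA.hom r ∈ 𝒜 0 := fun r => hs0A r ▸ SetLike.coe_mem _
  letI := t.hom.toAlgebra
  letI := sB.hom.toAlgebra
  letI := sA.hom.toAlgebra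
  letI := f.hom.toAlgebra
  letI : Algebra R' A := (sA.hom.comp t.hom).toAlgebra
  haveI : IsScalarTower R' R A := .of_algebraMap_eq fun _ => rfl
  haveI : IsScalarTower R' B A := .of_algebraMap_eq fun r => congrArg (fun h => h.hom r) hpo.w
  haveI : Algebra.IsPushout R' R B A := CommRingCat.isPushout_iff_isPushout.mp hpo
  let ℬ' := subMod sB ℬ hsB
  let 𝒜' := subMod sA 𝒜 hsA
  letI : GradedAlgebra ℬ' := gradedSubMod sB ℬ hsB
  letI : GradedAlgebra 𝒜' := gradedSubMod sA 𝒜 hsA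
  let φ' : ℬ' →+*ᵍ 𝒜' := { φ.toRingHom with map_mem := fun h => φ.map_mem h }
  let eA : 𝒜 →+*ᵍ 𝒜' := { RingHom.id A with map_mem := fun h => h }
  let eA' : 𝒜' →+*ᵍ 𝒜 := { RingHom.id A with map_mem := fun h => h }
  let eB : ℬ →+*ᵍ ℬ' := { RingHom.id B with map_mem := fun h => h }
  let eB' : ℬ' →+*ᵍ ℬ := { RingHom.id B with map_mem := fun h => h }
  have le_of {C : CommRingCat.{u}} {σ τ : Type u} [SetLike σ C] [AddSubgroupClass σ C] [SetLike τ C]
      [AddSubgroupClass τ C] {𝒞 : ℕ → σ} [GradedRing 𝒞] {𝒟 : ℕ → τ} [GradedRing 𝒟] (e : 𝒞 →+*ᵍ 𝒟)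
      (he : ∀ c : C, e c = c) (hm : ∀ (i : ℕ) (c : C), c ∈ 𝒟 i → c ∈ 𝒞 i) :
      HomogeneousIdeal.irrelevant 𝒟 ≤ (HomogeneousIdeal.irrelevant 𝒞).map e := by
    rw [HomogeneousIdeal.irrelevant_le]
    intro i hi c hc
    change c ∈ Ideal.map e (HomogeneousIdeal.irrelevant 𝒞).toIdeal
    have h := Ideal.mem_map_of_mem e (HomogeneousIdeal.mem_irrelevant_of_mem 𝒞 hi (hm i c hc))
    rwa [he] at h
  have hA := le_of eA (fun _ => rfl) (fun _ _ h => h)
  have hA' := le_of eA' (fun _ => rfl) (fun _ _ h => h)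
  have hB := le_of eB (fun _ => rfl) (fun _ _ h => h)
  have hB' := le_of eB' (fun _ => rfl) (fun _ _ h => h)
  have hirr' : HomogeneousIdeal.irrelevant 𝒜' ≤ (HomogeneousIdeal.irrelevant ℬ').map φ' := by
    rw [HomogeneousIdeal.irrelevant_le]
    intro i hi a ha
    have h1 : a ∈ Ideal.map φ (HomogeneousIdeal.irrelevant ℬ).toIdeal :=
      hirr (HomogeneousIdeal.mem_irrelevant_of_mem 𝒜 hi ha)
    change a ∈ Ideal.map φ' (HomogeneousIdeal.irrelevant ℬ').toIdeal
    refine (Ideal.map_le_iff_le_comap.mpr ?_) h1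
    intro b hb
    classical
    rw [← DirectSum.sum_support_decompose ℬ b]
    refine Ideal.sum_mem _ fun k _ => ?_
    rcases Nat.eq_zero_or_pos k with rfl | hk
    · have h0 := (HomogeneousIdeal.mem_irrelevant_iff ℬ b).mp hb
      rw [GradedRing.proj_apply] at h0
      rw [h0]
      exact zero_mem _
    · exact Ideal.mem_map_of_mem φ' (HomogeneousIdeal.mem_irrelevant_of_mem ℬ' hk
        (show (DirectSum.decompose ℬ b k : B) ∈ ℬ k from SetLike.coe_mem _))
  have H := isPullback ℬ' 𝒜' φ' (fun b => RingHom.congr_fun hφf b) hirr'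
  haveI hisoA : IsIso (Proj.map eA hA) := ⟨Proj.map eA' hA',
    by rw [← Proj.map_comp]; exact (Proj.map_id ..),
    by rw [← Proj.map_comp]; exact (Proj.map_id ..)⟩
  haveI hisoB : IsIso (Proj.map eB hB) := ⟨Proj.map eB' hB',
    by rw [← Proj.map_comp]; exact (Proj.map_id ..),
    by rw [← Proj.map_comp]; exact (Proj.map_id ..)⟩
  refine H.of_iso (asIso (Proj.map eA hA)) (asIso (Proj.map eB hB)) (Iso.refl _) (Iso.refl _) ?_ ?_ ?_ ?_
  · simp only [asIso_hom]
    rw [← Proj.map_comp, ← Proj.map_comp]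
    congr 1
  · simp only [asIso_hom, Iso.refl_hom, Category.comp_id]
    rw [← Category.assoc, RelProjLib.map_toSpecZero, Category.assoc, ← Spec.map_comp]
    congr 2
    ext r
    exact (hs0A r).symm
  · simp only [asIso_hom, Iso.refl_hom, Category.comp_id]
    rw [← Category.assoc, RelProjLib.map_toSpecZero, Category.assoc, ← Spec.map_comp]
    congr 2
    ext r
    exact (hs0B r).symm
  · simp only [Iso.refl_hom, Category.id_comp, Category.comp_id]
    rfl

end Groth.Agent.ProjBC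

end
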